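import Mathlib.Algebra.Homology.ShortComplex.Ab
import Mathlib.Algebra.Homology.ShortComplex.HomologicalComplex
import Mathlib.Algebra.Category.Grp.Zero

/-!
Homology of a complex of abelian groups from a description of cycles modulo boundaries.
-/

universe u

open CategoryTheory Limits

namespace Groth.Agent.SpSeq49

/-- A surjection from the cycles whose kernel is the boundaries computes the homology. -/
lemma nonempty_homology_iso_of_surj {K : CochainComplex AddCommGrpCat.{u} ℤ} {i j k : ℤ}
    (hij : i + 1 = j) (hjk : j + 1 = k) {A : AddCommGrpCat.{u}}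
    (θ : (K.d j k).hom.ker →+ A) (hθ : Function.Surjective θ)
    (hker : ∀ x, θ x = 0 ↔ ∃ y, K.d i j y = (x : K.X j)) :
    Nonempty (K.homology j ≅ A) := by
  subst hij hjk
  refine ⟨K.homologyIsoSc' i (i + 1) (i + 1 + 1) (by simp) (by simp) ≪≫
    ShortComplex.abHomologyIso _ ≪≫ (AddEquiv.toAddCommGrpIso ?_)⟩
  let S := K.sc' i (i + 1) (i + 1 + 1)
  let θ' : S.g.hom.ker →+ A := θ
  have h : θ'.ker = S.abToCycles.range := by
    ext x
    refine (hker x).trans ⟨?_, ?_⟩
    · rintro ⟨y, hy⟩
      exact ⟨y, Subtype.ext hy⟩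
    · rintro ⟨y, hy⟩
      exact ⟨y, congrArg Subtype.val hy⟩
  exact (QuotientAddGroup.quotientAddEquivOfEq h.symm).trans
    (QuotientAddGroup.quotientKerEquivOfSurjective θ' hθ)

end Groth.Agent.SpSeq49
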