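import Groth.Agent.SpSeq49.MapHom
import Mathlib.Algebra.Homology.HomotopyCategory.ShortExact

/-!
The spectral object of a diagram of complexes, computed by cokernels.
-/

universe v u

open CategoryTheory Category Limits ComposableArrows

namespace Groth.Agent.SpSeq49

variable {A : Type u} [Category.{v} A] [Abelian A] {ι : Type*} [Category ι]

/-- If `G i ⟶ G j ⟶ Q` is short exact, then `Hⁿ(i ⟶ j)` is the homology of `Q`. -/
lemma nonempty_complexSO_iso (G : ι ⥤ CochainComplex A ℤ) {i j : ι} (f : i ⟶ j)
    {Q : CochainComplex A ℤ} (π : G.obj j ⟶ Q) (w : G.map f ≫ π = 0)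
    (hS : (ShortComplex.mk (G.map f) π w).ShortExact) (n : ℤ) :
    Nonempty (((complexSO G).H n).obj (mk₁ f) ≅ Q.homology n) := by
  have := CochainComplex.mappingCone.quasiIso_descShortComplex hS
  exact ⟨complexSOIso G f n ≪≫
    asIso (HomologicalComplex.homologyMap
      (CochainComplex.mappingCone.descShortComplex (ShortComplex.mk (G.map f) π w)) n)⟩

end Groth.Agent.SpSeq49
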