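import Groth.Agent.SpSeq49.Core
import Groth.Agent.SpSeq49.OfFiltered
import Groth.Agent.SpSeq49.AbHomology
import Mathlib.Algebra.Homology.HomologicalComplexAbelian
import Mathlib.Algebra.Ring.NegOnePow

/-!
The spectral sequence of a first-quadrant double complex of abelian groups, with respect to the columns.
-/

universe u

open CategoryTheory Limits

namespace Groth.Agent.SpSeq49

/-- A first-quadrant double complex of abelian groups with commuting differentials. -/
structure DC where
  /-- The terms. -/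
  Φ : ℕ → ℕ → AddCommGrpCat.{u}
  /-- The vertical differential. -/
  v : ∀ p q, Φ p q →+ Φ p (q + 1)
  /-- The horizontal differential. -/
  h : ∀ p q, Φ p q →+ Φ (p + 1) q
  vv : ∀ p q x, v p (q + 1) (v p q x) = 0
  hh : ∀ p q x, h (p + 1) q (h p q x) = 0
  comm : ∀ p q x, h p (q + 1) (v p q x) = v (p + 1) q (h p q x)

namespace DC

variable (M : DC.{u})

/-- Families indexed by all positions. -/
abbrev Fam : Type u := ∀ p q, M.Φ p q

/-- The vertical differential on families. -/
def vIn (y : M.Fam) : M.Fam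
  | _, 0 => 0
  | p, q + 1 => M.v p q (y p q)

/-- The horizontal differential on families. -/
def hIn (y : M.Fam) : M.Fam
  | 0, _ => 0
  | p + 1, q => M.h p q (y p q)

/-- The sign of a column. -/
def sgn (p : ℕ) : ℤ := (-1) ^ p

/-- The total differential on families. -/
def Dt : M.Fam →+ M.Fam where
  toFun y p q := sgn p • M.vIn y p q + M.hIn y p q
  map_zero' := by
    funext p q
    cases p <;> cases q <;> simp [vIn, hIn]
  map_add' y z := by
    funext p q
    cases p <;> cases q <;> simp [vIn, hIn, smul_add] <;> abel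

lemma Dt_apply (y : M.Fam) (p q : ℕ) : M.Dt y p q = sgn p • M.vIn y p q + M.hIn y p q := rfl

/-- Families of total degree `n` supported in a set of columns. -/
def Supp (T : Set ℕ) (n : ℤ) : AddSubgroup M.Fam where
  carrier := {y | ∀ p q : ℕ, ¬ (p ∈ T ∧ (p : ℤ) + q = n) → y p q = 0}
  add_mem' hy hz p q h := by simp [hy p q h, hz p q h]
  zero_mem' _ _ _ := rfl
  neg_mem' hy p q h := by simp [hy p q h]

open Classical in
/-- Truncation to a set of columns. -/
noncomputable def tr (T : Set ℕ) : M.Fam →+ M.Fam where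
  toFun y p q := if p ∈ T then y p q else 0
  map_zero' := by funext p q; simp
  map_add' y z := by funext p q; by_cases h : p ∈ T <;> simp [h]

open Classical in
lemma tr_apply (T : Set ℕ) (y : M.Fam) (p q : ℕ) : M.tr T y p q = if p ∈ T then y p q else 0 := rfl

lemma tr_pos {T : Set ℕ} (y : M.Fam) {p : ℕ} (hp : p ∈ T) (q : ℕ) : M.tr T y p q = y p q := if_pos hp

lemma tr_neg {T : Set ℕ} (y : M.Fam) {p : ℕ} (hp : p ∉ T) (q : ℕ) : M.tr T y p q = 0 := if_neg hp

lemma Supp.eq_zero {T : Set ℕ} {n : ℤ} {y : M.Fam} (hy : y ∈ M.Supp T n) {p : ℕ} (hp : p ∉ T) (q : ℕ) :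
    y p q = 0 := hy p q fun h => hp h.1

lemma tr_mem {T T' : Set ℕ} {n : ℤ} {y : M.Fam} (hy : y ∈ M.Supp T n) : M.tr T' y ∈ M.Supp T' n := by
  intro p q h
  by_cases hp : p ∈ T'
  · rw [M.tr_pos y hp]
    exact hy p q fun h' => h ⟨hp, h'.2⟩
  · exact M.tr_neg y hp q

lemma D_mem {T : Set ℕ} {n : ℤ} {y : M.Fam} (hy : y ∈ M.Supp T n) :
    M.tr T (M.Dt y) ∈ M.Supp T (n + 1) := by
  intro p q h
  by_cases hp : p ∈ T
  swap
  · exact M.tr_neg _ hp q
  rw [M.tr_pos _ hp, Dt_apply]
  have hn : (p : ℤ) + q ≠ n + 1 := fun e => h ⟨hp, e⟩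
  have h1 : M.vIn y p q = 0 := by
    rcases q with _ | q
    · rfl
    · show M.v p q (y p q) = 0
      rw [hy p q fun h' => hn (by push_cast; linarith [h'.2]), map_zero]
  have h2 : M.hIn y p q = 0 := by
    rcases p with _ | p
    · rfl
    · show M.h p q (y p q) = 0
      rw [hy p q fun h' => hn (by push_cast; linarith [h'.2]), map_zero]
  simp [h1, h2]

lemma Dt_Dt (y : M.Fam) : M.Dt (M.Dt y) = 0 := by
  funext p q
  show M.Dt (M.Dt y) p q = 0
  rcases p with _ | p <;> rcases q with _ | q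
  · simp [Dt_apply, vIn, hIn]
  · rcases q with _ | q <;> simp [Dt_apply, vIn, hIn, M.vv]
  · rcases p with _ | p <;> simp [Dt_apply, vIn, hIn, M.hh]
  · rcases p with _ | p <;> rcases q with _ | q <;>
      simp [Dt_apply, vIn, hIn, M.vv, M.hh, M.comm, sgn, pow_succ, smul_add, ← map_zsmul] <;> abel

lemma D_D {T : Set ℕ} {n : ℤ} {y : M.Fam} (hy : y ∈ M.Supp T n) :
    M.tr T (M.Dt (M.tr T (M.Dt y))) = 0 := by
  funext p q
  by_cases hp : p ∈ T
  swap
  · exact M.tr_neg _ hp q
  rw [M.tr_pos _ hp]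
  have e := congrFun (congrFun (M.Dt_Dt y) p) q
  have hv : M.vIn (M.tr T (M.Dt y)) p q = M.vIn (M.Dt y) p q := by
    rcases q with _ | q
    · rfl
    · exact congrArg (M.v p q) (M.tr_pos _ hp q)
  have hh' : M.hIn (M.tr T (M.Dt y)) p q = M.hIn (M.Dt y) p q := by
    rcases p with _ | p
    · rfl
    · show M.h p q (M.tr T (M.Dt y) p q) = M.h p q (M.Dt y p q)
      by_cases hp' : p ∈ T
      · rw [M.tr_pos _ hp']
      · rw [M.tr_neg _ hp', map_zero, Dt_apply, map_add]
        have h1 : M.vIn y p q = 0 := by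
          rcases q with _ | q
          · rfl
          · show M.v p q (y p q) = 0
            rw [Supp.eq_zero M hy hp' q, map_zero]
        rw [h1, smul_zero, map_zero, zero_add]
        rcases p with _ | p
        · exact (map_zero _).symm
        · exact (M.hh p q _).symm
  rw [Dt_apply, hv, hh']
  exact e

/-- The differential of the total complex of a set of columns. -/
noncomputable def D (T : Set ℕ) (n : ℤ) : M.Supp T n →+ M.Supp T (n + 1) :=
  ((M.tr T).comp (M.Dt.comp (M.Supp T n).subtype)).codRestrict _ fun y => M.D_mem y.2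

lemma D_coe (T : Set ℕ) (n : ℤ) (y : M.Supp T n) : (M.D T n y : M.Fam) = M.tr T (M.Dt y) := rfl

/-- The total complex of a set of columns. -/
noncomputable def tot (T : Set ℕ) : CochainComplex AddCommGrpCat.{u} ℤ :=
  CochainComplex.of (fun n => AddCommGrpCat.of (M.Supp T n)) (fun n => AddCommGrpCat.ofHom (M.D T n))
    fun n => AddCommGrpCat.ext fun y => Subtype.ext (M.D_D (Subtype.prop (y : M.Supp T n)))

/-- The family underlying an element of a total complex. -/
def elt {T : Set ℕ} {n : ℤ} (y : (M.tot T).X n) : M.Fam := (show M.Supp T n from y).1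

lemma tot_d_apply (T : Set ℕ) (i j : ℤ) (hij : i + 1 = j) (y : (M.tot T).X i) :
    M.elt ((M.tot T).d i j y) = M.tr T (M.Dt (M.elt y)) := by
  subst hij
  simp only [tot, CochainComplex.of_d]
  rfl

/-- The condition for truncation to be a map of total complexes. -/
def Compat (T T' : Set ℕ) : Prop := ∀ p, p ∈ T → p + 1 ∈ T' → p ∈ T' ∧ p + 1 ∈ T

lemma tr_D {T T' : Set ℕ} (hT : Compat T T') {n : ℤ} {y : M.Fam} (hy : y ∈ M.Supp T n) :
    M.tr T' (M.Dt (M.tr T' y)) = M.tr T' (M.tr T (M.Dt y)) := by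
  funext p q
  by_cases hp : p ∈ T'
  swap
  · rw [M.tr_neg _ hp, M.tr_neg _ hp]
  rw [M.tr_pos _ hp, M.tr_pos _ hp]
  by_cases hpT : p ∈ T
  · rw [M.tr_pos _ hpT, Dt_apply, Dt_apply]
    congr 1
    · rcases q with _ | q
      · rfl
      · show _ • M.v p q (M.tr T' y p q) = _ • M.v p q (y p q)
        rw [M.tr_pos _ hp]
    · rcases p with _ | p
      · rfl
      · show M.h p q (M.tr T' y p q) = M.h p q (y p q)
        by_cases h' : p ∈ T
        · rw [M.tr_pos _ (hT p h' hp).1]
        · simp only [tr_apply, Supp.eq_zero M hy h' q, ite_self]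
  · rw [M.tr_neg _ hpT, Dt_apply]
    have h1 : M.vIn (M.tr T' y) p q = 0 := by
      rcases q with _ | q
      · rfl
      · show M.v p q (M.tr T' y p q) = 0
        rw [M.tr_pos _ hp, Supp.eq_zero M hy hpT q, map_zero]
    have h2 : M.hIn (M.tr T' y) p q = 0 := by
      rcases p with _ | p
      · rfl
      · show M.h p q (M.tr T' y p q) = 0
        by_cases h' : p ∈ T
        · exact absurd (hT p h' hp).2 hpT
        · simp only [tr_apply, Supp.eq_zero M hy h' q, ite_self, map_zero]
    rw [h1, h2, smul_zero, add_zero]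

/-- Truncation as a map of total complexes. -/
noncomputable def trMap {T T' : Set ℕ} (hT : Compat T T') : M.tot T ⟶ M.tot T' where
  f n := AddCommGrpCat.ofHom
    (((M.tr T').comp (M.Supp T n).subtype).codRestrict (M.Supp T' n) fun y => M.tr_mem y.2)
  comm' := by
    rintro i j (rfl : i + 1 = j)
    simp only [tot, CochainComplex.of_d]
    exact AddCommGrpCat.ext fun y => Subtype.ext (M.tr_D hT (Subtype.prop (y : M.Supp T i)))

lemma trMap_f_coe {T T' : Set ℕ} (hT : Compat T T') (n : ℤ) (y : M.Supp T n) :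
    M.elt (T := T') ((M.trMap hT).f n y) = M.tr T' y := rfl

/-- The columns of index at least `-i`. -/
def cols (i : EInt) : Set ℕ := {p | ((-(p : ℤ) : ℤ) : EInt) ≤ i}

lemma cols_mono {i j : EInt} (h : i ≤ j) : cols i ⊆ cols j := fun _ hp => le_trans hp h

lemma cols_upper {i : EInt} {p : ℕ} (hp : p ∈ cols i) : p + 1 ∈ cols i :=
  le_trans (WithBotTop.coe_le_coe.mpr (by omega)) (show ((-(p : ℤ) : ℤ) : EInt) ≤ i from hp)

lemma compat_cols {i j : EInt} (h : i ≤ j) : Compat (cols i) (cols j) := fun _ hp _ =>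
  ⟨cols_mono h hp, cols_upper hp⟩

lemma compat_diff (i j : EInt) : Compat (cols j) (cols j \ cols i) := fun _ hp hp' =>
  ⟨⟨hp, fun h => hp'.2 (cols_upper h)⟩, hp'.1⟩

/-- The diagram of the total complexes of the column filtration. -/
noncomputable def fil : EInt ⥤ CochainComplex AddCommGrpCat.{u} ℤ where
  obj i := M.tot (cols i)
  map f := M.trMap (compat_cols (leOfHom f))
  map_id i := by
    refine HomologicalComplex.hom_ext _ _ fun n => AddCommGrpCat.ext fun y => ?_
    refine Subtype.ext (funext fun p => funext fun q => ?_)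
    show M.tr (cols i) (M.elt y) p q = M.elt y p q
    by_cases hp : p ∈ cols i
    · exact M.tr_pos _ hp q
    · rw [M.tr_neg _ hp]
      exact (Supp.eq_zero M (Subtype.prop (y : M.Supp (cols i) n)) hp q).symm
  map_comp {i j k} f g := by
    refine HomologicalComplex.hom_ext _ _ fun n => AddCommGrpCat.ext fun y => ?_
    refine Subtype.ext (funext fun p => funext fun q => ?_)
    show M.tr (cols k) (M.elt y) p q = M.tr (cols k) (M.tr (cols j) (M.elt y)) p q
    by_cases hp : p ∈ cols k
    · rw [M.tr_pos _ hp, M.tr_pos _ hp]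
      by_cases hp' : p ∈ cols j
      · rw [M.tr_pos _ hp']
      · rw [M.tr_neg _ hp']
        exact Supp.eq_zero M (Subtype.prop (y : M.Supp (cols i) n)) (fun h => hp' (cols_mono (leOfHom f) h)) q
    · rw [M.tr_neg _ hp, M.tr_neg _ hp]

/-- The spectral object of the column filtration. -/
noncomputable def so : Abelian.SpectralObject AddCommGrpCat.{u} EInt := complexSO M.fil

lemma nonempty_so_iso {i j : EInt} (h : i ≤ j) (n : ℤ) :
    Nonempty ((M.so.H n).obj (ComposableArrows.mk₁ (homOfLE h)) ≅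
      (M.tot (cols j \ cols i)).homology n) := by
  refine nonempty_complexSO_iso M.fil (homOfLE h) (M.trMap (compat_diff i j)) ?_ ?_ n
  · refine HomologicalComplex.hom_ext _ _ fun m => AddCommGrpCat.ext fun y => ?_
    refine Subtype.ext (funext fun p => funext fun q => ?_)
    show M.tr (cols j \ cols i) (M.tr (cols j) (M.elt y)) p q = 0
    by_cases hp : p ∈ cols j \ cols i
    · rw [M.tr_pos _ hp, M.tr_pos _ hp.1]
      exact Supp.eq_zero M (Subtype.prop (y : M.Supp (cols i) m)) hp.2 q
    · rw [M.tr_neg _ hp]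
  · refine HomologicalComplex.shortExact_of_degreewise_shortExact _ fun m => ?_
    refine { exact := ?_, mono_f := ?_, epi_g := ?_ }
    · rw [ShortComplex.ab_exact_iff]
      intro (y : M.Supp (cols j) m) hy
      have hy' : M.tr (cols j \ cols i) y.1 = 0 := congrArg Subtype.val hy
      refine ⟨(⟨M.tr (cols i) y.1, M.tr_mem y.2⟩ : M.Supp (cols i) m), Subtype.ext (funext fun p => funext fun q => ?_)⟩
      show M.tr (cols j) (M.tr (cols i) y.1) p q = y.1 p q
      by_cases hp : p ∈ cols j
      · rw [M.tr_pos _ hp]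
        by_cases hp' : p ∈ cols i
        · rw [M.tr_pos _ hp']
        · rw [M.tr_neg _ hp']
          have := congrFun (congrFun hy' p) q
          rw [M.tr_pos _ (show p ∈ cols j \ cols i from ⟨hp, hp'⟩)] at this
          exact this.symm
      · rw [M.tr_neg _ hp]
        exact (Supp.eq_zero M y.2 hp q).symm
    · rw [AddCommGrpCat.mono_iff_injective]
      intro (y : M.Supp (cols i) m) (z : M.Supp (cols i) m) hyz
      refine Subtype.ext (funext fun p => funext fun q => ?_)
      by_cases hp : p ∈ cols i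
      · have e : M.tr (cols j) y.1 = M.tr (cols j) z.1 := congrArg Subtype.val hyz
        have := congrFun (congrFun e p) q
        rwa [M.tr_pos _ (cols_mono h hp), M.tr_pos _ (cols_mono h hp)] at this
      · rw [Supp.eq_zero M y.2 hp q, Supp.eq_zero M z.2 hp q]
    · rw [AddCommGrpCat.epi_iff_surjective]
      intro (z : M.Supp (cols j \ cols i) m)
      refine ⟨(⟨z.1, fun p q hpq => z.2 p q fun h' => hpq ⟨h'.1.1, h'.2⟩⟩ : M.Supp (cols j) m),
        Subtype.ext (funext fun p => funext fun q => ?_)⟩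
      show M.tr (cols j \ cols i) z.1 p q = z.1 p q
      by_cases hp : p ∈ cols j \ cols i
      · rw [M.tr_pos _ hp]
      · rw [M.tr_neg _ hp]
        exact (Supp.eq_zero M z.2 hp q).symm

lemma isZero_tot_X (T : Set ℕ) (n : ℤ) (hT : ∀ p : ℕ, p ∈ T → n < p) : IsZero ((M.tot T).X n) := by
  have : Subsingleton (M.Supp T n) := ⟨fun y z => Subtype.ext (funext fun p => funext fun q => by
    have h : ¬ (p ∈ T ∧ (p : ℤ) + q = n) := fun h => by have := hT p h.1; omega
    rw [y.2 p q h, z.2 p q h])⟩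
  exact AddCommGrpCat.isZero_of_subsingleton (AddCommGrpCat.of (M.Supp T n))

lemma firstQuad : FirstQuad M.so where
  hpos i j h hi n := by
    obtain ⟨e⟩ := M.nonempty_so_iso h n
    refine IsZero.of_iso (ShortComplex.isZero_homology_of_isZero_X₂ _ (M.isZero_tot_X _ n ?_)) e
    intro p hp
    exact absurd (le_trans (WithBotTop.coe_le_coe.mpr (by omega)) hi :
      ((-(p : ℤ) : ℤ) : EInt) ≤ i) hp.2
  hneg i j h n hj := by
    obtain ⟨e⟩ := M.nonempty_so_iso h n
    refine IsZero.of_iso (ShortComplex.isZero_homology_of_isZero_X₂ _ (M.isZero_tot_X _ n ?_)) e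
    intro p hp
    have := WithBotTop.coe_le_coe.mp (le_trans (show ((-(p : ℤ) : ℤ) : EInt) ≤ j from hp.1) hj)
    omega

lemma cols_diff_single (p : ℕ) :
    cols ((-(p : ℤ) : ℤ) : EInt) \ cols ((-(p : ℤ) - 1 : ℤ) : EInt) = {p} := by
  ext k
  simp only [Set.mem_sdiff, cols, Set.mem_ofPred_eq, Set.mem_singleton_iff, WithBotTop.coe_le_coe]
  omega

lemma cols_diff_univ : cols (⊤ : EInt) \ cols (⊥ : EInt) = Set.univ := by
  ext k
  simp [cols]

/-- The family with a single nonzero entry. -/
noncomputable def single (p q : ℕ) : M.Φ p q →+ M.Fam where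
  toFun x := Pi.single p (Pi.single q x)
  map_zero' := by simp
  map_add' x y := by simp [Pi.single_add]

lemma single_same (p q : ℕ) (x : M.Φ p q) : M.single p q x p q = x := by simp [single]

lemma single_mem (p q : ℕ) (x : M.Φ p q) : M.single p q x ∈ M.Supp {p} ((p : ℤ) + q) := by
  intro a b h
  rcases eq_or_ne a p with rfl | ha
  · have hb : b ≠ q := fun e => h ⟨rfl, by rw [e]⟩
    simp [single, hb]
  · simp [single, ha]

lemma Dt_single_apply {p : ℕ} {n : ℤ} (y : M.Supp {p} n) (q : ℕ) :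
    M.Dt y.1 p (q + 1) = sgn p • M.v p q (y.1 p q) := by
  rw [Dt_apply]
  have : M.hIn y.1 p (q + 1) = 0 := by
    rcases p with _ | p
    · rfl
    · show M.h p (q + 1) (y.1 p (q + 1)) = 0
      rw [Supp.eq_zero M y.2 (by simp) (q + 1), map_zero]
  rw [this, add_zero]
  rfl

/-- The homology of a column, from a description of vertical cycles modulo boundaries. -/
lemma nonempty_column_iso (p q : ℕ) {A : AddCommGrpCat.{u}}
    (θ : (M.v p q).ker →+ A) (hθ : Function.Surjective θ)
    (hker : ∀ x, θ x = 0 ↔ ((q = 0 ∧ (x : M.Φ p q) = 0) ∨ ∃ q', ∃ e : q' + 1 = q, ∃ y : M.Φ p q',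
      e ▸ M.v p q' y = (x : M.Φ p q))) :
    Nonempty ((M.tot {p}).homology ((p : ℤ) + q) ≅ A) := by
  have hsgn : ∀ {B : Type u} [AddCommGroup B] (b : B), sgn p • b = 0 ↔ b = 0 := by
    intro B _ b
    rcases neg_one_pow_eq_or ℤ p with e | e <;> simp [sgn, e]
  let cyc : ((M.tot {p}).d ((p : ℤ) + q) ((p : ℤ) + q + 1)).hom.ker → (M.v p q).ker := fun y =>
    ⟨(y.1 : M.Supp {p} ((p : ℤ) + q)).1 p q, by
      have e := congrFun (congrFun ((M.tot_d_apply {p} _ _ rfl _).symm.trans
        (congrArg Subtype.val y.2)) p) (q + 1)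
      rw [M.tr_pos _ (Set.mem_singleton p)] at e
      exact (hsgn _).mp ((M.Dt_single_apply (y.1 : M.Supp {p} ((p : ℤ) + q)) q).symm.trans e)⟩
  let cycHom := AddMonoidHom.mk' cyc (fun _ _ => Subtype.ext rfl)
  refine nonempty_homology_iso_of_surj (i := (p : ℤ) + q - 1) (by omega) rfl (θ.comp cycHom) ?_ ?_
  · intro a
    obtain ⟨x, rfl⟩ := hθ a
    refine ⟨⟨(⟨M.single p q x, M.single_mem p q x⟩ : M.Supp {p} ((p : ℤ) + q)), ?_⟩,
      congrArg θ (Subtype.ext (M.single_same p q x))⟩
    refine Subtype.ext ((M.tot_d_apply {p} _ _ rfl _).trans (funext fun a => funext fun b => ?_))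
    by_cases ha : a ∈ ({p} : Set ℕ)
    · rw [M.tr_pos _ ha]
      obtain rfl : a = p := ha
      rcases b with _ | b
      · show M.Dt _ a 0 = 0
        rcases a with _ | a
        · simp [Dt_apply, vIn, hIn]
        · simp [Dt_apply, vIn, hIn]
          show M.h a 0 (M.single (a + 1) q x.1 a 0) = 0
          simp [single]
      · refine (M.Dt_single_apply ⟨_, M.single_mem a q x⟩ b).trans ((hsgn _).mpr ?_)
        show M.v _ b (M.single _ q x.1 _ b) = 0
        rcases eq_or_ne b q with rfl | hb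
        · rw [M.single_same]
          exact x.2
        · simp [single, hb]
    · exact M.tr_neg _ ha b
  · intro y
    refine (hker (cyc y)).trans ⟨?_, ?_⟩
    · rintro (⟨rfl, h0⟩ | ⟨q', rfl, z, hz⟩)
      · refine ⟨0, ?_⟩
        rw [map_zero]
        refine Subtype.ext (funext fun a => funext fun b => ?_)
        by_cases h : a ∈ ({p} : Set ℕ) ∧ (a : ℤ) + b = p + (0 : ℕ)
        · obtain ⟨rfl : a = p, hb⟩ := h
          obtain rfl : b = 0 := by omega
          exact h0.symm
        · exact ((y.1 : M.Supp {p} _).2 a b h).symm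
      · refine ⟨(⟨M.single p q' (sgn p • z), fun a b h => M.single_mem p q' _ a b fun h' => h ⟨h'.1, by push_cast at h' ⊢; omega⟩⟩ :
          M.Supp {p} _), ?_⟩
        refine Subtype.ext ((M.tot_d_apply {p} _ _ (by omega) _).trans (funext fun a => funext fun b => ?_))
        by_cases h : a ∈ ({p} : Set ℕ) ∧ (a : ℤ) + b = p + ((q' + 1 : ℕ) : ℤ)
        · obtain ⟨rfl : a = p, hb⟩ := h
          obtain rfl : b = q' + 1 := by omega
          rw [M.tr_pos _ (Set.mem_singleton a)]
          refine (M.Dt_single_apply ⟨_, M.single_mem a q' (sgn a • z)⟩ q').trans ?_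
          show sgn a • M.v a q' (M.single a q' (sgn a • z) a q') = _
          rw [M.single_same, map_zsmul, smul_smul]
          have : sgn a * sgn a = 1 := by simp [sgn, ← mul_pow]
          rw [this, one_smul]
          exact hz
        · rw [(y.1 : M.Supp {p} _).2 a b h]
          refine M.D_mem (T := {p}) (n := (p : ℤ) + q') (M.single_mem p q' _) a b fun h' => h ⟨h'.1, by push_cast; omega⟩
    · rintro ⟨z, hz⟩
      have e := congrFun (congrFun ((M.tot_d_apply {p} _ _ (by omega) z).symm.trans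
        (congrArg Subtype.val hz)) p) q
      rw [M.tr_pos _ (Set.mem_singleton p)] at e
      rcases q with _ | q'
      · refine Or.inl ⟨rfl, ?_⟩
        show (y.1 : M.Supp {p} _).1 p 0 = 0
        refine e.symm.trans ?_
        rw [Dt_apply]
        rcases p with _ | p
        · simp [vIn, hIn]
        · show _ • (0 : M.Φ _ _) + M.h p 0 (M.elt z p 0) = 0
          have h0 : M.elt z p 0 = 0 :=
            Supp.eq_zero M (Subtype.prop (z : M.Supp {p + 1} _)) (fun h => Nat.succ_ne_self p (Set.mem_singleton_iff.mp h).symm) 0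
          rw [h0, map_zero, smul_zero, add_zero]
      · refine Or.inr ⟨q', rfl, sgn p • M.elt z p q', ?_⟩
        refine Eq.trans ?_ ((M.Dt_single_apply (z : M.Supp {p} _) q').symm.trans e)
        exact map_zsmul _ _ _

/-- The spectral sequence of the double complex: first page and abutment. -/
theorem exists_spectralSequence {H : ℤ → AddCommGrpCat.{u}}
    (eH : ∀ n, Nonempty ((M.tot Set.univ).homology n ≅ H n))
    (A : ℕ → ℕ → AddCommGrpCat.{u}) (eA : ∀ p q : ℕ, Nonempty ((M.tot {p}).homology ((p : ℤ) + q) ≅ A p q))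
    (B : ℤ × ℤ → AddCommGrpCat.{u}) (eB : ∀ p q : ℕ, Nonempty (A p q ≅ B ((p : ℤ), (q : ℤ))))
    (hB : ∀ p q : ℤ, p < 0 ∨ q < 0 → IsZero (B (p, q))) :
    ∃ (E : CohomologicalSpectralSequence AddCommGrpCat.{u} 1) (a : SpSeq.Abutment E H),
      (∀ n, a.IsFinite n) ∧ SpSeq.IsBounded E ∧
      ∀ p q : ℤ, Nonempty ((E.page 1 le_rfl).X (p, q) ≅ B (p, q)) := by
  have hab : ∀ n, Nonempty (abH M.so n ≅ H n) := fun n => by
    obtain ⟨e⟩ := M.nonempty_so_iso (bot_le : (⊥ : EInt) ≤ ⊤) n
    obtain ⟨e'⟩ := eH n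
    exact ⟨e ≪≫ eqToIso (by rw [cols_diff_univ]) ≪≫ e'⟩
  refine ⟨ss M.so, M.firstQuad.abutment fun n => (hab n).some,
    M.firstQuad.abutment_isFinite _, M.firstQuad.isBounded, fun p q => ?_⟩
  by_cases h : 0 ≤ p ∧ 0 ≤ q
  swap
  · exact ⟨(M.firstQuad.isZero_E₁ (by omega)).iso (hB p q (by omega))⟩
  obtain ⟨p, rfl⟩ := Int.eq_ofNat_of_zero_le h.1
  obtain ⟨q, rfl⟩ := Int.eq_ofNat_of_zero_le h.2
  have hle : ((-(p : ℤ) - 1 : ℤ) : EInt) ≤ ((-(p : ℤ) : ℤ) : EInt) := WithBotTop.coe_le_coe.mpr (by omega)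
  obtain ⟨e⟩ := M.nonempty_so_iso hle ((p : ℤ) + q)
  obtain ⟨e'⟩ := eA p q
  obtain ⟨e''⟩ := eB p q
  exact ⟨ssFirstPage M.so p q hle ≪≫ e ≪≫ eqToIso (by rw [cols_diff_single]) ≪≫ e' ≪≫ e''⟩

end DC

end Groth.Agent.SpSeq49
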