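import Mathlib.Algebra.Homology.SpectralObject.Basic
import Mathlib.Algebra.Homology.HomotopyCategory.SpectralObject
import Mathlib.Algebra.Homology.HomotopyCategory.HomologicalFunctor
import Mathlib.Algebra.Homology.HomotopyCategory.ShiftSequence
import Mathlib.Algebra.Homology.HomotopyCategory.Triangulated
import Mathlib.CategoryTheory.Triangulated.SpectralObject
import Mathlib.CategoryTheory.Triangulated.HomologicalFunctor

/-!
The spectral object in an abelian category attached to a diagram of cochain complexes.
-/

universe w v u

open CategoryTheory Category Limits Pretriangulated ComposableArrows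

namespace Groth.Agent.SpSeq49

section MapHom

variable {C ι : Type*} [Category C] [Category ι] [HasZeroObject C]
  [HasShift C ℤ] [Preadditive C] [∀ (n : ℤ), (shiftFunctor C n).Additive] [Pretriangulated C]
  {A : Type*} [Category A] [Abelian A]

/-- Applying a homological functor to a spectral object in a triangulated category. -/
noncomputable def mapHom (X : Triangulated.SpectralObject C ι) (F : C ⥤ A) [F.IsHomological]
    [F.ShiftSequence ℤ] : Abelian.SpectralObject A ι where
  H n := X.ω₁ ⋙ F.shift n
  δ' n₀ n₁ h :=
    { app := fun D => F.homologySequenceδ (X.ω₂.obj D) n₀ n₁ h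
      naturality := fun _ _ φ => F.homologySequenceδ_naturality _ _ (X.ω₂.map φ) n₀ n₁ h }
  exact₁' n₀ n₁ h D :=
    ((F.homologySequence_exact₁ _ (X.ω₂_obj_distinguished D) n₀ n₁ h)).exact_toComposableArrows
  exact₂' n D :=
    ((F.homologySequence_exact₂ _ (X.ω₂_obj_distinguished D) n)).exact_toComposableArrows
  exact₃' n₀ n₁ h D :=
    ((F.homologySequence_exact₃ _ (X.ω₂_obj_distinguished D) n₀ n₁ h)).exact_toComposableArrows

end MapHom

variable {A : Type u} [Category.{v} A] [Abelian A] {ι : Type*} [Category ι]

/-- The spectral object of a diagram of cochain complexes: `H^n(i ⟶ j)` is the homology of the mapping cone. -/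
noncomputable def complexSO (G : ι ⥤ CochainComplex A ℤ) : Abelian.SpectralObject A ι :=
  mapHom ((HomotopyCategory.spectralObjectMappingCone A).precomp G)
    (HomotopyCategory.homologyFunctor A (ComplexShape.up ℤ) 0)

/-- The value of the spectral object is the homology of a mapping cone. -/
noncomputable def complexSOIso (G : ι ⥤ CochainComplex A ℤ) {i j : ι} (f : i ⟶ j) (n : ℤ) :
    ((complexSO G).H n).obj (mk₁ f) ≅ (CochainComplex.mappingCone (G.map f)).homology n :=
  (HomotopyCategory.homologyFunctorFactors A (ComplexShape.up ℤ) n).app (CochainComplex.mappingCone (G.map f))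

end Groth.Agent.SpSeq49
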