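import Groth.Prelude.Def_SpSeq
import Mathlib.Algebra.Homology.SpectralObject.SpectralSequence
import Mathlib.Algebra.Homology.SpectralObject.FirstPage
import Mathlib.Algebra.Homology.SpectralObject.EpiMono
import Mathlib.Order.WithBotTop
import Mathlib.CategoryTheory.Abelian.Refinements
import Mathlib.Data.Int.Interval

/-!
The first-quadrant spectral sequence, starting at page one, of a spectral object indexed by the extended integers.
-/

universe v u

open CategoryTheory Category Limits ComposableArrows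

namespace Groth.Agent.SpSeq49

/-- The recipe for the page-one spectral sequence of a filtration. -/
@[simps!]
def coreE₁ : Abelian.SpectralObject.SpectralSequenceDataCore EInt
    (fun r ↦ ComplexShape.up' (⟨r, 1 - r⟩ : ℤ × ℤ)) 1 where
  deg pq := pq.1 + pq.2
  i₀ r pq hr := (-pq.1 - r :)
  i₁ pq := (-pq.1 - 1 :)
  i₂ pq := (-pq.1 :)
  i₃ r pq hr := (-pq.1 + r - 1 :)
  le₀₁ r pq hr := by simp; lia
  le₁₂ pq := by simp
  le₂₃ r pq hr := by simp; lia
  hc := by rintro r pq _ rfl _; dsimp; lia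
  hc₀₂ := by rintro r pq hr rfl _; simp; lia
  hc₁₃ := by rintro r pq hr rfl _; simp
  antitone_i₀ r r' pq hr hrr' := by simp; lia
  monotone_i₃ r r' pq hr hrr' := by simp; lia
  i₀_prev := by rintro r r' hr pq rfl _ _; dsimp; exact congrArg WithBotTop.coe (by lia)
  i₃_next := by rintro r r' hr pq rfl _ _; dsimp; exact congrArg WithBotTop.coe (by lia)

variable {C : Type u} [Category.{v} C] [Abelian C] (X : Abelian.SpectralObject C EInt)

instance : X.HasSpectralSequence coreE₁ where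
  isZero_H_obj_mk₁_i₀_le r r' pq hpq n hn hrr' hr := (hpq _ rfl).elim
  isZero_H_obj_mk₁_i₃_le r r' pq hpq n hn hrr' hr :=
    (hpq (pq - (r, 1 - r)) (by simp)).elim

instance : coreE₁.HasFirstPageComputation where
  hi₀₁ pq := by simp
  hi₂₃ pq := by simp

/-- Vanishing conditions making the page-one spectral sequence first-quadrant convergent. -/
structure FirstQuad : Prop where
  hpos : ∀ (i j : EInt) (h : i ≤ j), ((0 : ℤ) : EInt) ≤ i → ∀ n, IsZero ((X.H n).obj (mk₁ (homOfLE h)))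
  hneg : ∀ (i j : EInt) (h : i ≤ j) (n : ℤ), j ≤ ((-n - 1 : ℤ) : EInt) → IsZero ((X.H n).obj (mk₁ (homOfLE h)))

/-- The spectral sequence. -/
noncomputable abbrev ss : CohomologicalSpectralSequence C 1 := X.spectralSequence coreE₁

/-- The first page. -/
noncomputable def ssFirstPage (p q : ℤ) (h : ((-p - 1 : ℤ) : EInt) ≤ ((-p : ℤ) : EInt)) :
    ((ss X).page 1 le_rfl).X (p, q) ≅ (X.H (p + q)).obj (mk₁ (homOfLE h)) :=
  X.spectralSequenceFirstPageXIso coreE₁ (p, q) _ _ (by simp) (by simp) (p + q) (by simp)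

variable {X}

lemma FirstQuad.isZero_E₁ (hX : FirstQuad X) {p q : ℤ} (h : p < 0 ∨ q < 0) :
    IsZero (((ss X).page 1 le_rfl).X (p, q)) := by
  refine IsZero.of_iso ?_ (ssFirstPage X p q (by simp))
  rcases h with h | h
  · exact hX.hpos _ _ _ (by simp; lia) _
  · exact hX.hneg _ _ _ _ (by simp; lia)

lemma FirstQuad.isZero_page (hX : FirstQuad X) {p q : ℤ} (h : p < 0 ∨ q < 0) (r : ℤ) (hr : 1 ≤ r) :
    IsZero (((ss X).page r hr).X (p, q)) := by
  refine X.isZero_spectralSequence_page_X_of_isZero_H coreE₁ r hr (p, q) (p + q) (by simp)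
    ((-p - 1 : ℤ) : EInt) ((-p : ℤ) : EInt) (by simp) (by simp) ?_
  rcases h with h | h
  · exact hX.hpos _ _ _ (by simp; lia) _
  · exact hX.hneg _ _ _ _ (by simp; lia)

lemma FirstQuad.isBounded (hX : FirstQuad X) : SpSeq.IsBounded (ss X) := fun n =>
  (Set.finite_Icc (0 : ℤ) n).subset fun p hp => by
    by_contra h
    exact hp (hX.isZero_E₁ (by simp only [Set.mem_Icc] at h; lia))

/-- A page from which a position no longer changes. -/
def rkPage (pq : ℤ × ℤ) : ℤ := max (|pq.1| + |pq.2| + 2) 1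

lemma FirstQuad.stationary (hX : FirstQuad X) (pq : ℤ × ℤ) : SpSeq.StationaryAt (ss X) pq (rkPage pq) := by
  obtain ⟨p, q⟩ := pq
  refine ⟨le_max_right _ _, fun r h₀ hr => ⟨?_, ?_⟩⟩
  · refine IsZero.eq_of_src (hX.isZero_page ?_ r h₀) _ _
    simp only [rkPage] at hr
    have h1 := le_abs_self p
    have h2 := abs_nonneg q
    left
    show p - r < 0
    omega
  · refine IsZero.eq_of_tgt (hX.isZero_page ?_ r h₀) _ _
    simp only [rkPage] at hr
    have h1 := le_abs_self q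
    have h2 := abs_nonneg p
    right
    show q + (1 - r) < 0
    omega

variable (X)

/-- The abutment in a given degree. -/
noncomputable abbrev abH (n : ℤ) : C := (X.H n).obj (mk₁ (homOfLE (bot_le : (⊥ : EInt) ≤ ⊤)))

/-- The map from a step to the abutment. -/
noncomputable abbrev abMap (n : ℤ) (j : EInt) : (X.H n).obj (mk₁ (homOfLE (bot_le : ⊥ ≤ j))) ⟶ abH X n :=
  (X.H n).map (twoδ₂Toδ₁ (homOfLE (bot_le : ⊥ ≤ j)) (homOfLE (le_top : j ≤ ⊤)) (homOfLE bot_le) rfl)

lemma abMap_comp (n : ℤ) {i j : EInt} (h : i ≤ j) :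
    (X.H n).map (twoδ₂Toδ₁ (homOfLE (bot_le : ⊥ ≤ i)) (homOfLE h) (homOfLE bot_le) rfl) ≫ abMap X n j =
      abMap X n i := by
  rw [abMap, abMap, ← Functor.map_comp]
  congr 1

/-- The filtration on the abutment. -/
noncomputable def abFil (n p : ℤ) : Subobject (abH X n) := imageSubobject (abMap X n ((-p : ℤ) : EInt))

lemma abFil_anti (n : ℤ) : Antitone (abFil X n) := fun p p' h => by
  simp only [abFil, ← abMap_comp X n (show ((-p' : ℤ) : EInt) ≤ ((-p : ℤ) : EInt) by simp; lia),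
    imageSubobject_comp_le]

lemma subquot_image_iso {B A₁ A₂ T : C} (a : A₁ ⟶ B) (d : A₂ ⟶ B) (c : B ⟶ T) (w : d ≫ c = 0)
    (hex : (ShortComplex.mk d c w).Exact) (h : imageSubobject (a ≫ c) ≤ imageSubobject c)
    {E : C} (g : B ⟶ E) (hge : Epi g) (wg : biprod.desc a d ≫ g = 0)
    (hg : (ShortComplex.mk _ g wg).Exact) :
    Nonempty (E ≅ cokernel ((imageSubobject (a ≫ c)).ofLE (imageSubobject c) h)) := by
  let ψ : B ⟶ cokernel ((imageSubobject (a ≫ c)).ofLE (imageSubobject c) h) :=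
    factorThruImageSubobject c ≫ cokernel.π _
  have hψ0 : biprod.desc a d ≫ ψ = 0 := by
    refine biprod.hom_ext' _ _ ?_ ?_
    · rw [biprod.inl_desc_assoc, comp_zero]
      have : a ≫ factorThruImageSubobject c =
          factorThruImageSubobject (a ≫ c) ≫ (imageSubobject (a ≫ c)).ofLE _ h := by
        rw [← cancel_mono (imageSubobject c).arrow]
        simp
      simp only [ψ, ← assoc, this]
      simp
    · rw [biprod.inr_desc_assoc, comp_zero]
      have : d ≫ factorThruImageSubobject c = 0 := by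
        rw [← cancel_mono (imageSubobject c).arrow]
        simp [w]
      simp only [ψ, ← assoc, this, zero_comp]
  have hψ : (ShortComplex.mk _ ψ hψ0).Exact := by
    rw [ShortComplex.exact_iff_exact_up_to_refinements]
    intro U x hx
    dsimp at x hx
    have h1 : (x ≫ factorThruImageSubobject c) ≫
        (ShortComplex.mk ((imageSubobject (a ≫ c)).ofLE _ h) (cokernel.π _) (cokernel.condition _)).g = 0 := by
      simpa [ψ] using hx
    obtain ⟨U₁, π₁, _, y, hy⟩ := (ShortComplex.exact_cokernel ((imageSubobject (a ≫ c)).ofLE _ h)).exact_up_to_refinements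
      (x ≫ factorThruImageSubobject c) h1
    dsimp at y hy
    obtain ⟨U₂, π₂, _, z, hz⟩ := surjective_up_to_refinements_of_epi (factorThruImageSubobject (a ≫ c)) y
    have h2 : (π₂ ≫ π₁ ≫ x - z ≫ a) ≫ c = 0 := by
      have e := congrArg (fun t => π₂ ≫ t ≫ (imageSubobject c).arrow) hy
      simp only [assoc, imageSubobject_arrow_comp, Subobject.ofLE_arrow] at e
      rw [Preadditive.sub_comp, assoc, assoc, e, reassoc_of% hz]
      simp
    obtain ⟨U₃, π₃, _, w', hw'⟩ := hex.exact_up_to_refinements _ h2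
    refine ⟨U₃, π₃ ≫ π₂ ≫ π₁, inferInstance, biprod.lift (π₃ ≫ z) w', ?_⟩
    simp only [biprod.lift_desc, assoc]
    rw [← hw']
    simp [Preadditive.comp_sub]
  have : Epi ψ := epi_comp _ _
  exact ⟨hg.gIsCokernel.coconePointUniqueUpToIso hψ.gIsCokernel⟩

lemma nonempty_cokernel_ofLE_congr {B : C} {S S' T T' : Subobject B} (hS : S = S') (hT : T = T')
    (h : S ≤ T) (h' : S' ≤ T') : Nonempty (cokernel (S.ofLE T h) ≅ cokernel (S'.ofLE T' h')) := by
  subst hS hT
  exact ⟨Iso.refl _⟩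

variable {X}

lemma FirstQuad.nonempty_page_iso_gr (hX : FirstQuad X) (p q : ℤ) :
    Nonempty (((ss X).page (rkPage (p, q)) (le_max_right _ _)).X (p, q) ≅
      SpSeq.grPiece (abFil X (p + q)) (abFil_anti X (p + q)) p) := by
  set r := rkPage (p, q) with hr
  have h1 := le_abs_self p
  have h2 := le_abs_self q
  have h3 := abs_nonneg p
  have h4 := abs_nonneg q
  simp only [rkPage] at hr
  have hz₀ : IsZero ((X.H (p + q + 1)).obj (mk₁ (homOfLE (bot_le : ⊥ ≤ ((-p - r : ℤ) : EInt))))) :=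
    hX.hneg _ _ _ _ (by simp; omega)
  have hz₃ : IsZero ((X.H (p + q - 1)).obj (mk₁ (homOfLE (le_top : ((-p + r - 1 : ℤ) : EInt) ≤ ⊤)))) :=
    hX.hpos _ _ _ (by simp; omega) _
  have e₁ := X.spectralSequencePageXIso coreE₁ r (le_max_right _ _) (p, q)
    ((-p - r : ℤ) : EInt) ((-p - 1 : ℤ) : EInt) ((-p : ℤ) : EInt) ((-p + r - 1 : ℤ) : EInt)
    (by simp) (by simp) (by simp) (by simp) (p + q - 1) (p + q) (p + q + 1) (by simp)
  have e₂ := (X.isoMapFourδ₁Toδ₀' ⊥ ((-p - r : ℤ) : EInt) ((-p - 1 : ℤ) : EInt) ((-p : ℤ) : EInt)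
    ((-p + r - 1 : ℤ) : EInt) bot_le (by simp; omega) (by simp) (by simp; omega)
    (p + q - 1) (p + q) (p + q + 1) hz₀).symm
  have e₃ := X.isoMapFourδ₄Toδ₃' ⊥ ((-p - 1 : ℤ) : EInt) ((-p : ℤ) : EInt) ((-p + r - 1 : ℤ) : EInt) ⊤
    bot_le (by simp) (by simp; omega) le_top (p + q - 1) (p + q) (p + q + 1) hz₃
  have hle : ((-p - 1 : ℤ) : EInt) ≤ ((-p : ℤ) : EInt) := by simp
  let a := (X.H (p + q)).map (twoδ₂Toδ₁ (homOfLE (bot_le : ⊥ ≤ ((-p - 1 : ℤ) : EInt))) (homOfLE hle)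
    (homOfLE bot_le) rfl)
  let d := X.δ (homOfLE (bot_le : ⊥ ≤ ((-p : ℤ) : EInt))) (homOfLE (le_top : ((-p : ℤ) : EInt) ≤ ⊤))
    (p + q - 1) (p + q)
  have hseq := X.cokernelSequenceE_exact (homOfLE (bot_le : ⊥ ≤ ((-p - 1 : ℤ) : EInt))) (homOfLE hle)
    (homOfLE (le_top : ((-p : ℤ) : EInt) ≤ ⊤)) (homOfLE bot_le) rfl (p + q - 1) (p + q) (p + q + 1)
  have key : ∀ j : EInt, j = ((-(p + 1) : ℤ) : EInt) →
      imageSubobject (abMap X (p + q) j) = abFil X (p + q) (p + 1) := by rintro j rfl; rfl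
  have hab : imageSubobject (a ≫ abMap X (p + q) ((-p : ℤ) : EInt)) = abFil X (p + q) (p + 1) := by
    refine Eq.trans ?_ (key ((-p - 1 : ℤ) : EInt) (congrArg WithBotTop.coe (by omega)))
    simp only [← abMap_comp X (p + q) hle, a]
  obtain ⟨e₄⟩ := subquot_image_iso a d (abMap X (p + q) ((-p : ℤ) : EInt))
    (X.zero₁ _ _ _ _ _ _) (X.exact₁ _ _ _ rfl (p + q - 1) (p + q)) (imageSubobject_comp_le _ _)
    _ (by dsimp [Abelian.SpectralObject.cokernelSequenceE]; infer_instance) (X.cokernelSequenceE (homOfLE (bot_le : ⊥ ≤ ((-p - 1 : ℤ) : EInt))) (homOfLE hle)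
    (homOfLE (le_top : ((-p : ℤ) : EInt) ≤ ⊤)) (homOfLE bot_le) rfl (p + q - 1) (p + q) (p + q + 1)
    (sub_add_cancel _ _) rfl).zero hseq
  obtain ⟨e₅⟩ := nonempty_cokernel_ofLE_congr hab rfl (imageSubobject_comp_le _ _)
    (abFil_anti X (p + q) (show p ≤ p + 1 by lia))
  exact ⟨e₁ ≪≫ e₂ ≪≫ e₃ ≪≫ e₄ ≪≫ e₅⟩

/-- The abutment data. -/
noncomputable def FirstQuad.abutment (hX : FirstQuad X) {H : ℤ → C} (e : ∀ n, abH X n ≅ H n) :
    SpSeq.Abutment (ss X) H := by
  refine
  { fil := fun n p => imageSubobject (abMap X n ((-p : ℤ) : EInt) ≫ (e n).hom)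
    anti := fun n p p' h => ?_
    rk := rkPage
    stat := hX.stationary
    β := fun pq => (hX.nonempty_page_iso_gr pq.1 pq.2).some ≪≫ ?_ }
  · simp only [← abMap_comp X n (show ((-p' : ℤ) : EInt) ≤ ((-p : ℤ) : EInt) by simp; lia), assoc]
    exact imageSubobject_comp_le _ _
  · refine cokernel.mapIso _ _ (imageSubobjectCompIso (abMap X _ _) (e _).hom).symm
      (imageSubobjectCompIso (abMap X _ _) (e _).hom).symm ?_
    rw [← cancel_mono (Subobject.arrow _)]
    simp only [assoc, Subobject.ofLE_arrow, Iso.symm_hom, imageSubobjectCompIso_inv_arrow, abFil]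
    exact Subobject.ofLE_arrow_assoc _ _

lemma FirstQuad.abutment_isFinite (hX : FirstQuad X) {H : ℤ → C} (e : ∀ n, abH X n ≅ H n) (n : ℤ) :
    (hX.abutment e).IsFinite n := by
  refine ⟨⟨0, ?_⟩, n + 1, ?_⟩
  · change imageSubobject (abMap X n ((-0 : ℤ) : EInt) ≫ (e n).hom) = ⊤
    have : Epi (abMap X n ((-0 : ℤ) : EInt)) :=
      (X.exact₂ (homOfLE (bot_le : ⊥ ≤ ((-0 : ℤ) : EInt))) (homOfLE le_top) (homOfLE bot_le) rfl n).epi_f
        ((hX.hpos _ _ _ (by simp) n).eq_of_tgt _ _)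
    have := epi_comp (abMap X n ((-0 : ℤ) : EInt)) (e n).hom
    have : Epi (imageSubobject (abMap X n ((-0 : ℤ) : EInt) ≫ (e n).hom)).arrow :=
      epi_of_epi_fac (imageSubobject_arrow_comp _)
    have := isIso_of_mono_of_epi (imageSubobject (abMap X n ((-0 : ℤ) : EInt) ≫ (e n).hom)).arrow
    exact Subobject.eq_top_of_isIso_arrow _
  · change imageSubobject (abMap X n ((-(n + 1) : ℤ) : EInt) ≫ (e n).hom) = ⊥
    simp only [(hX.hneg _ _ _ n (by simp; lia)).eq_of_src (abMap X n ((-(n + 1) : ℤ) : EInt)) 0, zero_comp,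
      imageSubobject_zero]

end Groth.Agent.SpSeq49
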